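import Mathlib.RingTheory.Smooth.Locus
import Mathlib.RingTheory.Spectrum.Prime.FreeLocus
import Mathlib.RingTheory.Extension.Presentation.Basic

/-!
# Away from the singular locus the conormal sequence splits up to a power
-/

set_option autoImplicit false

universe u

open TensorProduct

noncomputable section

namespace Groth.Agent.CotRigid8

theorem exists_retraction {A B : Type u} [CommRing A] [CommRing B] [Algebra A B] [IsNoetherianRing B]
    [Algebra.FinitePresentation A B] {ι σ : Type} [Finite ι] [Finite σ] (P : Algebra.Presentation A B ι σ)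
    (τ : B) (hsm : ∀ q : PrimeSpectrum B, τ ∉ q.asIdeal → q ∈ Algebra.smoothLocus A B) :
    ∃ (c : ℕ) (r : P.toExtension.CotangentSpace →ₗ[B] P.toExtension.Cotangent),
      ∀ x, r (P.toExtension.cotangentComplex x) = τ ^ c • x := by
  classical
  haveI : Module.Finite B P.toExtension.Cotangent := Algebra.Extension.Cotangent.finite P.fg_ker
  haveI : Module.Finite B P.toExtension.CotangentSpace :=
    Module.Finite.of_basis P.toGenerators.cotangentSpaceBasis
  haveI : Module.Projective B P.toExtension.CotangentSpace :=
    Module.Projective.of_basis P.toGenerators.cotangentSpaceBasis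
  haveI : Module.Finite B P.toExtension.H1Cotangent :=
    inferInstanceAs (Module.Finite B (LinearMap.ker P.toExtension.cotangentComplex))
  haveI : Module.Finite B (Algebra.H1Cotangent A B) := Module.Finite.equiv P.equivH1Cotangent
  have hsub : (PrimeSpectrum.basicOpen τ : Set (PrimeSpectrum B)) ⊆ Algebra.smoothLocus A B :=
    fun q hq => hsm q hq
  rw [Algebra.smoothLocus_eq_compl_support_inter, Set.subset_inter_iff] at hsub
  obtain ⟨a, ha⟩ : τ ∈ (Module.annihilator B (Algebra.H1Cotangent A B)).radical := by
    rw [Ideal.radical_eq_sInf, Submodule.mem_sInf]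
    rintro p ⟨hle, hp⟩
    by_contra hτ
    exact hsub.1 (show (⟨p, hp⟩ : PrimeSpectrum B) ∈ (PrimeSpectrum.basicOpen τ : Set (PrimeSpectrum B)) from hτ)
      (Module.mem_support_iff_of_finite.2 hle)
  haveI := Module.basicOpen_subset_freeLocus_iff.1 hsub.2
  let S := Submonoid.powers τ
  let L := Localization S
  let π := P.toExtension.toKaehler
  let lF := LocalizedModule.mkLinearMap S P.toExtension.CotangentSpace
  let lO := LocalizedModule.mkLinearMap S Ω[B⁄A]
  let πl := LocalizedModule.map S π
  obtain ⟨sec, hsec⟩ := Module.projective_lifting_property πl LinearMap.id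
    (LocalizedModule.map_surjective S π P.toExtension.toKaehler_surjective)
  let g : Ω[B⁄A] →ₗ[B] LocalizedModule S P.toExtension.CotangentSpace := (sec.restrictScalars B) ∘ₗ lO
  obtain ⟨h, s₁, hh⟩ := Module.FinitePresentation.exists_lift_of_isLocalizedModule
    (N' := LocalizedModule S P.toExtension.CotangentSpace) S lF g
  have hπl : ∀ x, πl (lF x) = lO (π x) := fun x => LocalizedModule.map_mk S π x 1
  have hcomp : lO ∘ₗ (π ∘ₗ h) = lO ∘ₗ ((s₁ : B) • LinearMap.id) := LinearMap.ext fun x => by
    have e := LinearMap.congr_fun hh x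
    simp only [LinearMap.comp_apply, LinearMap.smul_apply, Submonoid.smul_def] at e
    simp only [LinearMap.comp_apply, LinearMap.smul_apply, LinearMap.id_apply, map_smul, ← hπl, e, g]

    change πl ((s₁ : B) • sec (lO x)) = _
    rw [LinearMap.map_smul_of_tower, show πl (sec (lO x)) = lO x from LinearMap.congr_fun hsec _]
  obtain ⟨s₂, hs₂⟩ := Module.Finite.exists_smul_of_comp_eq_of_isLocalizedModule S lO _ _ hcomp
  obtain ⟨b, hb⟩ := (s₂ * s₁).2
  let q : P.toExtension.CotangentSpace →ₗ[B] P.toExtension.CotangentSpace :=
    τ ^ b • LinearMap.id - (s₂ : B) • (h ∘ₗ π)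
  have hq : ∀ x, q x ∈ LinearMap.range P.toExtension.cotangentComplex := fun x => by
    refine (P.toExtension.exact_cotangentComplex_toKaehler _).1 ?_
    have e := LinearMap.congr_fun hs₂ (π x)
    simp only [LinearMap.smul_apply, LinearMap.comp_apply, Submonoid.smul_def, LinearMap.id_apply,
      ← mul_smul] at e
    simp only [q, LinearMap.sub_apply, LinearMap.smul_apply, LinearMap.id_apply, LinearMap.comp_apply,
      map_sub, map_smul]
    change τ ^ b • π x - (s₂ : B) • π (h (π x)) = 0
    rw [e, show τ ^ b = (s₂ : B) * s₁ from hb, sub_self]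
  obtain ⟨r₀, hr₀⟩ := Module.projective_lifting_property P.toExtension.cotangentComplex.rangeRestrict
    (q.codRestrict _ hq) P.toExtension.cotangentComplex.surjective_rangeRestrict
  have hr₀' : ∀ y, P.toExtension.cotangentComplex (r₀ y) = q y := fun y =>
    congrArg Subtype.val (LinearMap.congr_fun hr₀ y)
  refine ⟨a + b, τ ^ a • r₀, fun x => ?_⟩
  let y : P.toExtension.H1Cotangent :=
    ⟨r₀ (P.toExtension.cotangentComplex x) - τ ^ b • x, by
      rw [LinearMap.mem_ker, map_sub, map_smul, hr₀']
      simp [q, (P.toExtension.exact_cotangentComplex_toKaehler).apply_apply_eq_zero x, π]⟩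
  have hy : τ ^ a • y = 0 := P.equivH1Cotangent.injective (by
    rw [map_smul, map_zero, Module.mem_annihilator.1 ha])
  have := congrArg Subtype.val hy
  change τ ^ a • (r₀ (P.toExtension.cotangentComplex x) - τ ^ b • x) = 0 at this
  rw [smul_sub, sub_eq_zero] at this
  rw [LinearMap.smul_apply, this, ← mul_smul, pow_add]

end Groth.Agent.CotRigid8
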