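import Groth.Agent.Lib.CotT3.Basic

/-!
# A rigid algebra: deformations over a curve are trivial to every order
-/

set_option autoImplicit false
set_option backward.isDefEq.respectTransparency false

universe u

open TensorProduct

noncomputable section

namespace Groth.Agent.CotRigid8

variable {k B B₀ : Type u} [CommRing k] [CommRing B] [CommRing B₀] [Algebra k B] [Algebra k B₀]

theorem exists_section (hrigid : Subsingleton (CotT.T1 (CotT.canon k B₀) B₀)) (q₀ : B →ₐ[k] B₀)
    (hq : Function.Surjective q₀) (τ : B) (hker : RingHom.ker q₀ = Ideal.span {τ})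
    (hreg : ∀ b, τ * b = 0 → b = 0) (n : ℕ) :
    ∃ s : B₀ →ₐ[k] B ⧸ Ideal.span {τ ^ (n + 1)}, ∀ y b, s y = Ideal.Quotient.mk _ b → q₀ b = y := by
  classical
  have hτ : q₀ τ = 0 := by rw [← RingHom.mem_ker, hker]; exact Ideal.mem_span_singleton_self τ
  induction n with
  | zero =>
    refine ⟨(Ideal.quotientEquivAlgOfEq k (by simpa using hker)).toAlgHom.comp
      (Ideal.quotientKerAlgEquivOfSurjective hq).symm.toAlgHom, fun y b h => ?_⟩
    obtain ⟨b', rfl⟩ := hq y
    have e : (Ideal.quotientKerAlgEquivOfSurjective hq).symm (q₀ b') = Ideal.Quotient.mk _ b' := by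
      rw [AlgEquiv.symm_apply_eq]; rfl
    rw [AlgHom.comp_apply, AlgEquiv.toAlgHom_eq_coe, AlgEquiv.toAlgHom_eq_coe, AlgEquiv.coe_toAlgHom,
      AlgEquiv.coe_toAlgHom, e, Ideal.quotientEquivAlgOfEq_mk,
      Ideal.Quotient.eq, zero_add, pow_one, ← hker, RingHom.mem_ker, map_sub, sub_eq_zero] at h
    exact h.symm
  | succ n ih =>
    obtain ⟨s, hs⟩ := ih
    have hregm : ∀ (m : ℕ) (b : B), τ ^ m * b = 0 → b = 0 := by
      intro m
      induction m with
      | zero => intro b hb; simpa using hb
      | succ m ihm => intro b hb; exact hreg _ (ihm _ (by rw [← mul_assoc, ← pow_succ, hb]))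
    choose bv hbv using fun y : B₀ => Ideal.Quotient.mk_surjective (s y)
    let P := CotT.canon k B₀
    let ev : MvPolynomial B₀ k →ₐ[k] B₀ := MvPolynomial.aeval id
    have hev : ∀ h : P.toExtension.Ring, algebraMap P.toExtension.Ring B₀ h = ev h := fun h =>
      (CotT.algebraMap_toExtension P h).trans rfl
    let E : MvPolynomial B₀ k →ₐ[k] B := MvPolynomial.aeval bv
    have hE : ∀ h, q₀ (E h) = ev h := AlgHom.congr_fun (φ₁ := q₀.comp E) (φ₂ := ev)
      (MvPolynomial.algHom_ext fun y => by
        simp only [AlgHom.comp_apply, E, ev, MvPolynomial.aeval_X, id_eq]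
        exact hs y _ (hbv y).symm)
    have hsE : ∀ h, Ideal.Quotient.mk _ (E h) = s (ev h) := AlgHom.congr_fun
      (φ₁ := (Ideal.Quotient.mkₐ k _).comp E) (φ₂ := s.comp ev) (MvPolynomial.algHom_ext fun y => by
        simp only [AlgHom.comp_apply, E, ev, MvPolynomial.aeval_X, id_eq, Ideal.Quotient.mkₐ_eq_mk]
        exact hbv y)
    have hdiv : ∀ h : P.toExtension.ker, ∃ β, E h.1 = τ ^ (n + 1) * β := fun h => by
      obtain ⟨β, hβ⟩ := Ideal.mem_span_singleton'.1 ((Ideal.Quotient.eq_zero_iff_mem).1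
        ((hsE h.1).trans (by rw [← hev h.1, show algebraMap P.toExtension.Ring B₀ h.1 = 0 from h.2, map_zero])))
      exact ⟨β, by rw [← hβ, mul_comm]⟩
    choose β hβ using hdiv
    let φ₀ : P.toExtension.ker → B₀ := fun h => q₀ (β h)
    have φ₀_eq : ∀ h b, E h.1 = τ ^ (n + 1) * b → φ₀ h = q₀ b := fun h b hb => by
      refine congrArg q₀ (sub_eq_zero.1 (hregm (n + 1) _ ?_))
      rw [mul_sub, ← hβ h, ← hb, sub_self]
    have φ₀_add : ∀ h h', φ₀ (h + h') = φ₀ h + φ₀ h' := fun h h' => by
      rw [φ₀_eq (h + h') (β h + β h') ((map_add E h.1 h'.1).trans ((congrArg₂ (· + ·) (hβ h) (hβ h')).trans (mul_add _ _ _).symm)), map_add]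
    have φ₀_smul : ∀ (q : P.toExtension.Ring) h, φ₀ (q • h) = ev q * φ₀ h := fun q h => by
      rw [φ₀_eq (q • h) (E q * β h) ((map_mul E q h.1).trans ((congrArg (E q * ·) (hβ h)).trans (mul_left_comm _ _ _))), map_mul, hE]
    have φ₀_sq : ∀ h, Algebra.Extension.Cotangent.mk h = 0 → φ₀ h = 0 := fun h hh => by
      rw [← LinearMap.mem_ker, Algebra.Extension.Cotangent.ker_mk] at hh
      refine Submodule.smul_induction_on hh (fun r hr m _ => ?_) (fun x y hx hy => ?_)
      · rw [φ₀_smul, ← hev, show algebraMap P.toExtension.Ring B₀ r = 0 from hr, zero_mul]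
      · rw [φ₀_add, hx, hy, add_zero]
    let pre := Function.surjInv (Algebra.Extension.Cotangent.mk_surjective (P := P.toExtension))
    have φ_mk : ∀ h, φ₀ (pre (Algebra.Extension.Cotangent.mk h)) = φ₀ h := fun h => by
      have := φ₀_sq (pre (Algebra.Extension.Cotangent.mk h) - h)
        (by rw [map_sub, Function.surjInv_eq (Algebra.Extension.Cotangent.mk_surjective (P := P.toExtension)), sub_self])
      have e := φ₀_add (pre (Algebra.Extension.Cotangent.mk h) - h) h
      rwa [sub_add_cancel, this, zero_add] at e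
    let φ : P.toExtension.Cotangent →ₗ[B₀] B₀ :=
      { toFun := fun x => φ₀ (pre x)
        map_add' := fun x y => by
          obtain ⟨x, rfl⟩ := Algebra.Extension.Cotangent.mk_surjective x
          obtain ⟨y, rfl⟩ := Algebra.Extension.Cotangent.mk_surjective y
          rw [← map_add, φ_mk, φ_mk, φ_mk, φ₀_add]
        map_smul' := fun b x => by
          obtain ⟨x, rfl⟩ := Algebra.Extension.Cotangent.mk_surjective x
          obtain ⟨q, rfl⟩ := P.toExtension.algebraMap_surjective b
          rw [algebraMap_smul, ← map_smul, φ_mk, φ_mk, φ₀_smul, RingHom.id_apply, smul_eq_mul, hev] }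
    obtain ⟨ψ, hψ⟩ := (CotT3.subsingleton_T1_iff P B₀).1 hrigid φ
    let d : MvPolynomial B₀ k → B₀ := fun h =>
      ψ ((1 : B₀) ⊗ₜ KaehlerDifferential.D k P.toExtension.Ring h)
    have hsm : ∀ (a : P.toExtension.Ring) (x : CotT.L0 P), a • x = ev a • x := fun a x => by
      rw [← hev, algebraMap_smul]
    choose lf hlf using hq
    let E' : MvPolynomial B₀ k →ₐ[k] B :=
      MvPolynomial.aeval fun y => bv y - τ ^ (n + 1) * lf (d (MvPolynomial.X y))
    have hE' : ∀ h, q₀ (E' h) = ev h := AlgHom.congr_fun (φ₁ := q₀.comp E') (φ₂ := ev)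
      (MvPolynomial.algHom_ext fun y => by
        simp only [AlgHom.comp_apply, E', ev, MvPolynomial.aeval_X, id_eq, map_sub, map_mul, map_pow,
          hτ, zero_pow (Nat.succ_ne_zero n), zero_mul, sub_zero]
        exact hs y _ (hbv y).symm)
    have key : ∀ h, ∃ w, E h - E' h = τ ^ (n + 1) * w ∧ q₀ w = d h := by
      intro h
      induction h using MvPolynomial.induction_on with
      | C r => exact ⟨0, by simp [E, E'], by
          have : KaehlerDifferential.D k P.toExtension.Ring (MvPolynomial.C r) = 0 :=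
            Derivation.map_algebraMap _ r
          simp [d, this]⟩
      | add f g hf hg =>
        obtain ⟨w, hw, hw'⟩ := hf
        obtain ⟨w', hw₂, hw₂'⟩ := hg
        refine ⟨w + w', by rw [map_add, map_add, mul_add, ← hw, ← hw₂]; ring, ?_⟩
        rw [map_add, hw', hw₂']
        change _ = ψ ((1 : B₀) ⊗ₜ KaehlerDifferential.D k P.toExtension.Ring (f + g : P.toExtension.Ring))
        rw [map_add, TensorProduct.tmul_add, map_add]
      | mul_X f y hf =>
        obtain ⟨w, hw, hw'⟩ := hf
        refine ⟨w * bv y + E' f * lf (d (MvPolynomial.X y)), ?_, ?_⟩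
        · have hsub : E f = E' f + τ ^ (n + 1) * w := by rw [← hw]; ring
          simp only [map_mul, E, E', MvPolynomial.aeval_X] at hsub ⊢
          rw [hsub]; ring
        · rw [map_add, map_mul, map_mul, hw', hlf, hs y _ (hbv y).symm, hE']
          change _ = ψ ((1 : B₀) ⊗ₜ KaehlerDifferential.D k P.toExtension.Ring
            ((f : P.toExtension.Ring) * (MvPolynomial.X y : P.toExtension.Ring)))
          rw [Derivation.leibniz, TensorProduct.tmul_add, TensorProduct.tmul_smul, TensorProduct.tmul_smul,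
            hsm, hsm, map_add, map_smul, map_smul, smul_eq_mul, smul_eq_mul]
          simp only [d, ev, MvPolynomial.aeval_X, id_eq]
          ring
    let E'' : MvPolynomial B₀ k →ₐ[k] B ⧸ Ideal.span {τ ^ (n + 1 + 1)} := (Ideal.Quotient.mkₐ k _).comp E'
    have hev_surj : Function.Surjective ev := fun b => ⟨MvPolynomial.X b, by simp [ev]⟩
    have hE'' : RingHom.ker ev ≤ RingHom.ker E'' := fun h hh => by
      have hk : (h : P.toExtension.Ring) ∈ P.toExtension.ker := (hev h).trans hh
      obtain ⟨w, hw, hw'⟩ := key h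
      have e1 : q₀ (β ⟨h, hk⟩) = d h := by
        have := LinearMap.congr_fun hψ (Algebra.Extension.Cotangent.mk ⟨h, hk⟩)
        rw [LinearMap.comp_apply, Algebra.Extension.cotangentComplex_mk] at this
        exact ((φ_mk ⟨h, hk⟩).symm.trans this.symm)
      obtain ⟨z, hz⟩ := Ideal.mem_span_singleton'.1
        (hker.le ((RingHom.mem_ker).2 (show q₀ (β ⟨h, hk⟩ - w) = 0 by rw [map_sub, e1, hw', sub_self])))
      refine (RingHom.mem_ker).2 ((Ideal.Quotient.eq_zero_iff_mem).2 (Ideal.mem_span_singleton'.2 ⟨z, ?_⟩))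
      have : E' h = τ ^ (n + 1) * (β ⟨h, hk⟩ - w) := by
        have e := hβ ⟨h, hk⟩
        dsimp only at e
        rw [mul_sub, ← hw, ← e]; ring
      change _ = E' h
      rw [this, ← hz]; ring
    refine ⟨AlgHom.liftOfSurjective ev hev_surj E'' hE'', fun y b hb => ?_⟩
    have hy : ev (MvPolynomial.X y) = y := by simp [ev]
    rw [← hy, AlgHom.liftOfSurjective_apply] at hb
    have : b - E' (MvPolynomial.X y) ∈ RingHom.ker q₀ := by
      rw [hker]
      obtain ⟨z, hz⟩ := Ideal.mem_span_singleton'.1 (Ideal.Quotient.eq.1 hb.symm)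
      exact Ideal.mem_span_singleton'.2 ⟨z * τ ^ (n + 1), by rw [mul_assoc, ← pow_succ]; exact hz⟩
    rw [RingHom.mem_ker, map_sub, sub_eq_zero] at this
    rw [this, hE', hy]

end Groth.Agent.CotRigid8
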