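import Groth.Agent.Lib.CotRigid8.Section
import Groth.Agent.Lib.CotRigid8.Retraction
import Mathlib.RingTheory.Smooth.Basic
import Mathlib.LinearAlgebra.Dual.Lemmas
import Mathlib.LinearAlgebra.TensorProduct.RightExactness

/-!
# A rigid algebra admitting a smoothing is formally smooth
-/

set_option autoImplicit false
set_option backward.isDefEq.respectTransparency false

universe u

open TensorProduct

noncomputable section

namespace Groth.Agent.CotRigid8

variable {k A B B₀ : Type u} [Field k] [CommRing A] [CommRing B] [CommRing B₀] [Algebra k A] [Algebra k B]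
  [Algebra k B₀] [Algebra A B] [IsScalarTower k A B]

/-- The trivialisation of a deformation to order `n`. -/
theorem exists_trivialization (t : A) (hA : ∀ a : A, ∃ (l : k) (a' : A), a = algebraMap k A l + t * a')
    (q₀ : B →ₐ[k] B₀) (hq : Function.Surjective q₀) (hker : RingHom.ker q₀ = Ideal.span {algebraMap A B t})
    (hreg : ∀ b, algebraMap A B t * b = 0 → b = 0) (n : ℕ)
    (s : B₀ →ₐ[k] B ⧸ Ideal.span {algebraMap A B t ^ n})
    (hs : ∀ y b, s y = Ideal.Quotient.mk _ b → q₀ b = y) :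
    ∃ Θ : B →ₐ[k] B₀ ⊗[k] (A ⧸ Ideal.span {t ^ n}),
      (∀ a, Θ (algebraMap A B a) = (1 : B₀) ⊗ₜ Ideal.Quotient.mk _ a) ∧
      (∀ y b, s y = Ideal.Quotient.mk _ b → Θ b = y ⊗ₜ 1) ∧
      ∀ b, Ideal.Quotient.mk (Ideal.span {algebraMap A B t ^ n}) b = 0 → Θ b = 0 := by
  classical
  let τ := algebraMap A B t
  let fA : A →ₐ[k] B ⧸ Ideal.span {τ ^ n} := (Ideal.Quotient.mkₐ k _).comp (IsScalarTower.toAlgHom k A B)
  have hfA : ∀ a ∈ Ideal.span {t ^ n}, fA a = 0 := fun a ha => by
    obtain ⟨c, rfl⟩ := Ideal.mem_span_singleton'.1 ha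
    exact (Ideal.Quotient.eq_zero_iff_mem).2 (Ideal.mem_span_singleton'.2 ⟨algebraMap A B c, by
      change _ = algebraMap A B (c * t ^ n)
      rw [map_mul, map_pow]⟩)
  let fn : A ⧸ Ideal.span {t ^ n} →ₐ[k] B ⧸ Ideal.span {τ ^ n} := Ideal.Quotient.liftₐ _ fA hfA
  let Λ := Algebra.TensorProduct.productMap s fn
  let tn : B₀ ⊗[k] (A ⧸ Ideal.span {t ^ n}) := (1 : B₀) ⊗ₜ Ideal.Quotient.mk _ t
  have htn : Λ tn = Ideal.Quotient.mk _ τ := by
    change Algebra.TensorProduct.productMap s fn ((1 : B₀) ⊗ₜ Ideal.Quotient.mk _ t) = _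
    rw [Algebra.TensorProduct.productMap_apply_tmul, map_one, one_mul]
    rfl
  have hone : ∀ y : B₀, Λ (y ⊗ₜ 1) = s y := fun y => by
    change Algebra.TensorProduct.productMap s fn _ = _
    rw [Algebra.TensorProduct.productMap_apply_tmul, map_one, mul_one]
  have hdec : ∀ z : B₀ ⊗[k] (A ⧸ Ideal.span {t ^ n}), ∃ y z', z = y ⊗ₜ 1 + tn * z' := by
    intro z
    induction z using TensorProduct.induction_on with
    | zero => exact ⟨0, 0, by simp⟩
    | add x y hx hy =>
      obtain ⟨y₁, z₁, rfl⟩ := hx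
      obtain ⟨y₂, z₂, rfl⟩ := hy
      exact ⟨y₁ + y₂, z₁ + z₂, by rw [TensorProduct.add_tmul, mul_add]; abel⟩
    | tmul y a =>
      obtain ⟨a, rfl⟩ := Ideal.Quotient.mk_surjective a
      obtain ⟨l, a', rfl⟩ := hA a
      refine ⟨l • y, y ⊗ₜ Ideal.Quotient.mk _ a', ?_⟩
      simp only [tn, Algebra.TensorProduct.tmul_mul_tmul, one_mul, map_add, map_mul, TensorProduct.tmul_add]
      congr 1
      rw [TensorProduct.smul_tmul]
      congr 1
      rw [Algebra.smul_def, mul_one]
      rfl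
  have hsurj : ∀ j, j ≤ n → ∀ b : B, ∃ z c, Ideal.Quotient.mk _ b = Λ z + Ideal.Quotient.mk _ (τ ^ j * c) := by
    intro j
    induction j with
    | zero => exact fun _ b => ⟨0, b, by simp⟩
    | succ j ih =>
      intro hj b
      obtain ⟨z, c, hz⟩ := ih (Nat.le_of_succ_le hj) b
      obtain ⟨c', hc'⟩ := Ideal.Quotient.mk_surjective (s (q₀ c))
      obtain ⟨d, hd⟩ := Ideal.mem_span_singleton'.1 (hker.le ((RingHom.mem_ker).2
        (show q₀ (c - c') = 0 by rw [map_sub, hs _ _ hc'.symm, sub_self])))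
      refine ⟨z + tn ^ j * (q₀ c ⊗ₜ 1), d, ?_⟩
      rw [hz, map_add Λ, map_mul Λ, map_pow Λ, htn, hone, ← hc', ← map_pow (Ideal.Quotient.mk _), ← map_mul (Ideal.Quotient.mk _), add_assoc, ← map_add (Ideal.Quotient.mk _)]
      congr 2
      rw [show c = c' + d * τ by rw [hd]; ring, pow_succ]
      ring
  have hinj : ∀ j, j ≤ n → ∀ z, Λ z = 0 → ∃ z', z = tn ^ j * z' := by
    intro j
    induction j with
    | zero => exact fun _ z _ => ⟨z, by simp⟩
    | succ j ih =>
      intro hj z hz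
      obtain ⟨z', rfl⟩ := ih (Nat.le_of_succ_le hj) z hz
      obtain ⟨y, z'', rfl⟩ := hdec z'
      obtain ⟨by', hby⟩ := Ideal.Quotient.mk_surjective (s y)
      obtain ⟨w, hw⟩ := Ideal.Quotient.mk_surjective (Λ z'')
      rw [map_mul Λ, map_pow Λ, map_add Λ, map_mul Λ, htn, hone, ← hby, ← hw, ← map_mul (Ideal.Quotient.mk _),
        ← map_add (Ideal.Quotient.mk _), ← map_pow (Ideal.Quotient.mk _), ← map_mul (Ideal.Quotient.mk _)] at hz
      obtain ⟨d, hd⟩ := Ideal.mem_span_singleton'.1 ((Ideal.Quotient.eq_zero_iff_mem).1 hz)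
      have e : τ ^ j * (by' + τ * w - d * τ ^ (n - j)) = 0 := by
        rw [mul_sub, ← hd]
        have : τ ^ j * τ ^ (n - j) = τ ^ n := by rw [← pow_add, Nat.add_sub_cancel' (Nat.le_of_succ_le hj)]
        rw [← this]; ring
      have hregj : ∀ (m : ℕ) (b : B), τ ^ m * b = 0 → b = 0 := by
        intro m
        induction m with
        | zero => intro b hb; simpa using hb
        | succ m ihm => intro b hb; exact hreg _ (ihm _ (by rw [← mul_assoc, ← pow_succ, hb]))
      have e2 := congrArg q₀ (hregj j _ e)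
      have hτ : q₀ τ = 0 := by rw [← RingHom.mem_ker, hker]; exact Ideal.mem_span_singleton_self _
      rw [map_sub, map_add, map_mul, map_mul, map_pow, hτ, zero_pow (by omega), mul_zero, zero_mul, add_zero,
        sub_zero, map_zero, hs y _ hby.symm] at e2
      subst e2
      exact ⟨z'', by rw [TensorProduct.zero_tmul, zero_add, pow_succ, mul_assoc]⟩
  have hbij : Function.Bijective Λ := by
    refine ⟨fun z₁ z₂ h => ?_, fun x => ?_⟩
    · obtain ⟨z', hz'⟩ := hinj n le_rfl (z₁ - z₂) (by rw [map_sub, h, sub_self])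
      have : tn ^ n = 0 := by
        rw [Algebra.TensorProduct.tmul_pow, ← map_pow,
          (Ideal.Quotient.eq_zero_iff_mem).2 (Ideal.mem_span_singleton_self _), TensorProduct.tmul_zero]
      rwa [this, zero_mul, sub_eq_zero] at hz'
    · obtain ⟨b, rfl⟩ := Ideal.Quotient.mk_surjective x
      obtain ⟨z, c, hz⟩ := hsurj n le_rfl b
      refine ⟨z, ?_⟩
      rw [hz, (Ideal.Quotient.eq_zero_iff_mem).2 (Ideal.mem_span_singleton'.2 ⟨c, mul_comm _ _⟩), add_zero]
  let e := AlgEquiv.ofBijective Λ hbij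
  refine ⟨e.symm.toAlgHom.comp (Ideal.Quotient.mkₐ k _), fun a => ?_, fun y b hb => ?_, fun b hb => ?_⟩
  · change e.symm (Ideal.Quotient.mk _ (algebraMap A B a)) = _
    rw [AlgEquiv.symm_apply_eq]
    have : Λ ((1 : B₀) ⊗ₜ Ideal.Quotient.mk _ a) = Ideal.Quotient.mk _ (algebraMap A B a) := by
      change Algebra.TensorProduct.productMap s fn ((1 : B₀) ⊗ₜ Ideal.Quotient.mk _ a) = _
      rw [Algebra.TensorProduct.productMap_apply_tmul, map_one, one_mul]
      rfl
    exact this.symm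
  · change e.symm (Ideal.Quotient.mk _ b) = _
    rw [AlgEquiv.symm_apply_eq, ← hb]
    exact (hone y).symm
  · change e.symm (Ideal.Quotient.mk _ b) = _
    rw [hb, map_zero]

theorem formallySmooth_of_rigid_smoothing [IsNoetherianRing B] [Algebra.FinitePresentation A B] (t : A)
    (hA : ∀ a : A, ∃ (l : k) (a' : A), a = algebraMap k A l + t * a')
    (htc : ∀ c : ℕ, t ^ c ∉ Ideal.span {t ^ (c + 1)}) (q₀ : B →ₐ[k] B₀) (hq : Function.Surjective q₀)
    (hker : RingHom.ker q₀ = Ideal.span {algebraMap A B t}) (hreg : ∀ b, algebraMap A B t * b = 0 → b = 0)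
    (hrigid : Subsingleton (CotT.T1 (CotT.canon k B₀) B₀))
    (hsm : ∀ q : PrimeSpectrum B, algebraMap A B t ∉ q.asIdeal → q ∈ Algebra.smoothLocus A B) :
    Algebra.FormallySmooth k B₀ := by
  classical
  let P := Algebra.Presentation.ofFinitePresentation A B
  obtain ⟨c, r, hr⟩ := exists_retraction P _ hsm
  obtain ⟨s, hs⟩ := exists_section hrigid q₀ hq _ hker hreg c
  obtain ⟨Θ, hΘA, hΘs, hΘ0⟩ := exists_trivialization t hA q₀ hq hker hreg (c + 1) s hs
  refine Algebra.FormallySmooth.of_comp_surjective fun C _ _ J hJ g => ?_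
  let π₀ : C →ₐ[k] C ⧸ J := Ideal.Quotient.mkₐ k J
  have hπ₀ : Function.Surjective π₀ := Ideal.Quotient.mk_surjective
  let π : C ⊗[k] (A ⧸ Ideal.span {t ^ (c + 1)}) →ₐ[k] (C ⧸ J) ⊗[k] (A ⧸ Ideal.span {t ^ (c + 1)}) :=
    Algebra.TensorProduct.map π₀ (AlgHom.id k _)
  have hπ : Function.Surjective π := Algebra.TensorProduct.map_surjective π₀ (AlgHom.id k _) hπ₀ Function.surjective_id
  have hπker : RingHom.ker π = J.map (Algebra.TensorProduct.includeLeft : C →ₐ[k] C ⊗[k] _) := by
    rw [Algebra.TensorProduct.rTensor_ker π₀ hπ₀]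
    congr 1
    exact Ideal.mk_ker
  have hK2 : ∀ x y, π x = 0 → π y = 0 → x * y = 0 := fun x y hx hy => by
    have h : x * y ∈ (RingHom.ker π) * (RingHom.ker π) := Ideal.mul_mem_mul hx hy
    rwa [hπker, ← Ideal.map_mul, ← pow_two, hJ, Ideal.map_bot, Ideal.mem_bot] at h
  let tn : C ⊗[k] (A ⧸ Ideal.span {t ^ (c + 1)}) := (1 : C) ⊗ₜ Ideal.Quotient.mk _ t
  have htn : tn ^ (c + 1) = 0 := by
    rw [Algebra.TensorProduct.tmul_pow, ← map_pow,
      (Ideal.Quotient.eq_zero_iff_mem).2 (Ideal.mem_span_singleton_self _), TensorProduct.tmul_zero]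
  -- the coefficient of `t ^ c`
  obtain ⟨ε, hε⟩ : ∃ ε : (A ⧸ Ideal.span {t ^ (c + 1)}) →ₗ[k] k, ε (Ideal.Quotient.mk _ (t ^ c)) = 1 := by
    have hne : Ideal.Quotient.mk (Ideal.span {t ^ (c + 1)}) (t ^ c) ≠ 0 := fun h =>
      htc c ((Ideal.Quotient.eq_zero_iff_mem).1 h)
    obtain ⟨f, hf⟩ : ∃ f : Module.Dual k (A ⧸ Ideal.span {t ^ (c + 1)}), f (Ideal.Quotient.mk _ (t ^ c)) ≠ 0 := by
      by_contra! h
      exact hne ((Module.forall_dual_apply_eq_zero_iff k _).1 h)
    exact ⟨(f (Ideal.Quotient.mk _ (t ^ c)))⁻¹ • f, by rw [LinearMap.smul_apply, smul_eq_mul, inv_mul_cancel₀ hf]⟩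
  let cf : C ⊗[k] (A ⧸ Ideal.span {t ^ (c + 1)}) →ₗ[k] C :=
    (TensorProduct.rid k C).toLinearMap ∘ₗ ε.lTensor C
  have cf_tmul : ∀ x a, cf (x ⊗ₜ a) = ε a • x := fun x a => by simp [cf]
  have cf_mul : ∀ x z, cf ((x ⊗ₜ 1) * z) = x * cf z := fun x z => by
    induction z using TensorProduct.induction_on with
    | zero => simp
    | add z w hz hw => rw [mul_add, map_add, map_add, hz, hw, mul_add]
    | tmul y a => rw [Algebra.TensorProduct.tmul_mul_tmul, one_mul, cf_tmul, cf_tmul, mul_smul_comm]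
  have cf_ker : ∀ z, π z = 0 → cf z ∈ J := fun z hz => by
    have h : z ∈ RingHom.ker π := hz
    rw [hπker] at h
    suffices ∀ w, cf (w * z) ∈ J by simpa using this 1
    refine Submodule.span_induction (p := fun z _ => ∀ w, cf (w * z) ∈ J) ?_ (fun w => by simp)
      (fun z z' _ _ h h' w => by rw [mul_add, map_add]; exact J.add_mem (h w) (h' w))
      (fun a z _ h w => by rw [smul_eq_mul, ← mul_assoc]; exact h _) h
    rintro _ ⟨j, hj, rfl⟩ w
    rw [mul_comm]
    change cf ((j ⊗ₜ 1) * w) ∈ J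
    rw [cf_mul]
    exact J.mul_mem_right _ hj
  -- lifting the family
  let gn : B₀ ⊗[k] (A ⧸ Ideal.span {t ^ (c + 1)}) →ₐ[k] (C ⧸ J) ⊗[k] (A ⧸ Ideal.span {t ^ (c + 1)}) :=
    Algebra.TensorProduct.map g (AlgHom.id k _)
  let Ψ : B →ₐ[k] (C ⧸ J) ⊗[k] (A ⧸ Ideal.span {t ^ (c + 1)}) := gn.comp Θ
  let inA : A →+* C ⊗[k] (A ⧸ Ideal.span {t ^ (c + 1)}) :=
    (Algebra.TensorProduct.includeRight (R := k) (A := C)).toRingHom.comp (Ideal.Quotient.mk _)
  choose xl hxl using fun i => hπ (Ψ (P.val i))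
  let σ : P.toExtension.Ring →+* C ⊗[k] (A ⧸ Ideal.span {t ^ (c + 1)}) := MvPolynomial.eval₂Hom inA xl
  have hev : ∀ f : P.toExtension.Ring, algebraMap P.toExtension.Ring B f = MvPolynomial.aeval P.val f :=
    fun f => P.algebraMap_apply f
  have σ_C : ∀ a, σ (MvPolynomial.C a) = inA a := fun a => MvPolynomial.eval₂Hom_C inA xl a
  have σ_X : ∀ i, σ (MvPolynomial.X i) = xl i := fun i => MvPolynomial.eval₂Hom_X' inA xl i
  have am_C : ∀ a, algebraMap P.toExtension.Ring B (MvPolynomial.C a) = algebraMap A B a := fun a =>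
    (hev _).trans (MvPolynomial.aeval_C _ _)
  have am_X : ∀ i, algebraMap P.toExtension.Ring B (MvPolynomial.X i) = P.val i := fun i =>
    (hev _).trans (MvPolynomial.aeval_X _ _)
  have hπA : ∀ a, π (inA a) = Ψ (algebraMap A B a) := fun a => by
    change π ((1 : C) ⊗ₜ Ideal.Quotient.mk _ a) = gn (Θ (algebraMap A B a))
    rw [hΘA]
    simp [π, gn]
  have hσπ : ∀ f : P.toExtension.Ring, π (σ f) = Ψ (algebraMap P.toExtension.Ring B f) := fun f => by
    induction f using MvPolynomial.induction_on with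
    | C a => exact (congrArg π (σ_C a)).trans ((hπA a).trans (congrArg Ψ (am_C a)).symm)
    | add f g hf hg => rw [map_add, map_add, hf, hg, map_add, map_add]
    | mul_X f i hf =>
      let g : P.toExtension.Ring := f
      let X : P.toExtension.Ring := MvPolynomial.X i
      change π (σ (g * X)) = Ψ (algebraMap P.toExtension.Ring B (g * X))
      rw [map_mul, map_mul, map_mul, map_mul, show σ X = xl i from σ_X i,
        show algebraMap P.toExtension.Ring B X = P.val i from am_X i, hxl]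
      exact congrArg (· * Ψ (P.val i)) hf
  have hσ_sq : ∀ x : P.toExtension.ker, Algebra.Extension.Cotangent.mk x = 0 → σ x.1 = 0 := fun x hx => by
    rw [← LinearMap.mem_ker, Algebra.Extension.Cotangent.ker_mk] at hx
    refine Submodule.smul_induction_on hx (fun p hp m _ => ?_) (fun x y hx hy => ?_)
    · change σ (p * m.1) = 0
      rw [map_mul, hK2 _ _ (by rw [hσπ, show algebraMap P.toExtension.Ring B p = 0 from hp, map_zero])
        (by rw [hσπ, show algebraMap P.toExtension.Ring B m.1 = 0 from m.2, map_zero])]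
    · change σ (x.1 + y.1) = 0
      rw [map_add, hx, hy, add_zero]
  let pre := Function.surjInv (Algebra.Extension.Cotangent.mk_surjective (P := P.toExtension))
  let Φ : P.toExtension.Cotangent → C ⊗[k] (A ⧸ Ideal.span {t ^ (c + 1)}) := fun x => σ (pre x).1
  have Φ_mk : ∀ x : P.toExtension.ker, Φ (Algebra.Extension.Cotangent.mk x) = σ x.1 := fun x => by
    have h := hσ_sq (pre (Algebra.Extension.Cotangent.mk x) - x) (by
      rw [map_sub, Function.surjInv_eq (Algebra.Extension.Cotangent.mk_surjective (P := P.toExtension)), sub_self])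
    change σ ((pre (Algebra.Extension.Cotangent.mk x)).1 - x.1) = 0 at h
    rwa [map_sub, sub_eq_zero] at h
  have Φ_add : ∀ x y, Φ (x + y) = Φ x + Φ y := fun x y => by
    obtain ⟨x, rfl⟩ := Algebra.Extension.Cotangent.mk_surjective x
    obtain ⟨y, rfl⟩ := Algebra.Extension.Cotangent.mk_surjective y
    rw [← map_add, Φ_mk, Φ_mk, Φ_mk]
    exact map_add σ _ _
  have Φ_smul : ∀ (f : P.toExtension.Ring) x, Φ (algebraMap P.toExtension.Ring B f • x) = σ f * Φ x := fun f x => by
    obtain ⟨x, rfl⟩ := Algebra.Extension.Cotangent.mk_surjective x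
    rw [algebraMap_smul, ← map_smul, Φ_mk, Φ_mk]
    exact map_mul σ _ _
  have Φ_π : ∀ x, π (Φ x) = 0 := fun x => by
    rw [show Φ x = σ (pre x).1 from rfl, hσπ, show algebraMap P.toExtension.Ring B (pre x).1 = 0 from (pre x).2,
      map_zero]
  let D : P.toExtension.Ring → C ⊗[k] (A ⧸ Ideal.span {t ^ (c + 1)}) := fun f =>
    Φ (r ((1 : B) ⊗ₜ KaehlerDifferential.D A P.toExtension.Ring f))
  have D_add : ∀ f g, D (f + g) = D f + D g := fun f g => by
    change Φ _ = Φ _ + Φ _
    rw [map_add, TensorProduct.tmul_add, map_add, Φ_add]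
  have D_mul : ∀ f g, D (f * g) = σ f * D g + σ g * D f := fun f g => by
    change Φ _ = _ * Φ _ + _ * Φ _
    rw [Derivation.leibniz, TensorProduct.tmul_add, TensorProduct.tmul_smul, TensorProduct.tmul_smul,
      ← algebraMap_smul B f, ← algebraMap_smul B g, map_add, map_smul, map_smul, Φ_add, Φ_smul, Φ_smul]
  have D_C : ∀ a, D (MvPolynomial.C a) = 0 := fun a => by
    change Φ _ = 0
    rw [show KaehlerDifferential.D A P.toExtension.Ring (MvPolynomial.C a) = 0 from Derivation.map_algebraMap _ a,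
      TensorProduct.tmul_zero, map_zero, ← map_zero Algebra.Extension.Cotangent.mk, Φ_mk]
    exact map_zero σ
  have D_ker : ∀ f, algebraMap P.toExtension.Ring B f = 0 → D f = tn ^ c * σ f := fun f hf => by
    have e := hr (Algebra.Extension.Cotangent.mk ⟨f, hf⟩)
    rw [Algebra.Extension.cotangentComplex_mk] at e
    change Φ _ = _
    rw [e, ← map_pow, ← am_C (t ^ c), Φ_smul, Φ_mk, show σ (MvPolynomial.C (t ^ c)) = inA (t ^ c) from σ_C _,
      map_pow]
    rfl
  -- the polynomial algebra on the elements of `B₀`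
  let ev : MvPolynomial B₀ k →ₐ[k] B₀ := MvPolynomial.aeval id
  have hev_surj : Function.Surjective ev := fun b => ⟨MvPolynomial.X b, by simp [ev]⟩
  choose el hel using fun y : B₀ => hπ₀ (g y)
  let e : MvPolynomial B₀ k →ₐ[k] C := MvPolynomial.aeval el
  have he : ∀ h, π₀ (e h) = g (ev h) := AlgHom.congr_fun (φ₁ := π₀.comp e) (φ₂ := g.comp ev)
    (MvPolynomial.algHom_ext fun y => by simp [e, ev, hel])
  choose yb hyb using fun y : B₀ => Ideal.Quotient.mk_surjective (s y)
  choose pl hpl using fun y : B₀ => P.toExtension.algebraMap_surjective (yb y)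
  let p : MvPolynomial B₀ k →+* P.toExtension.Ring :=
    MvPolynomial.eval₂Hom ((MvPolynomial.C).comp (algebraMap k A)) pl
  have p_C : ∀ l, p (MvPolynomial.C l) = MvPolynomial.C (algebraMap k A l) := fun l =>
    MvPolynomial.eval₂Hom_C _ _ l
  have p_X : ∀ y, p (MvPolynomial.X y) = pl y := fun y => MvPolynomial.eval₂Hom_X' _ _ y
  have hpB : ∀ h, Ideal.Quotient.mk _ (algebraMap P.toExtension.Ring B (p h)) = s (ev h) := fun h => by
    induction h using MvPolynomial.induction_on with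
    | C l =>
      rw [p_C, am_C, ← IsScalarTower.algebraMap_apply, MvPolynomial.aeval_C, s.commutes]
      rfl
    | add f g hf hg => rw [map_add, map_add, map_add, hf, hg, map_add, map_add]
    | mul_X f y hf =>
      rw [map_mul, map_mul, map_mul, hf, p_X, hpl, hyb, map_mul, map_mul]
      simp [ev]
  have hσe : ∀ h, π (σ (p h) - e h ⊗ₜ 1) = 0 := fun h => by
    rw [map_sub, sub_eq_zero, hσπ]
    change gn (Θ _) = π _
    rw [hΘs (ev h) _ (hpB h).symm]
    simp only [gn, π, Algebra.TensorProduct.map_tmul, he]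
  let δ : MvPolynomial B₀ k → C := fun h => cf (D (p h) - tn ^ c * (σ (p h) - e h ⊗ₜ 1))
  have δ_mem : ∀ h, δ h ∈ J := fun h => cf_ker _ (by rw [map_sub, Φ_π, map_mul, hσe, mul_zero, sub_zero])
  have δ_add : ∀ h h', δ (h + h') = δ h + δ h' := fun h h' => by
    change cf _ = cf _ + cf _
    rw [← map_add, map_add p, D_add, map_add σ, map_add e, TensorProduct.add_tmul]
    congr 1; ring
  have δ_mul : ∀ h h', δ (h * h') = e h * δ h' + e h' * δ h := fun h h' => by
    change cf _ = e h * cf _ + e h' * cf _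
    rw [← cf_mul, ← cf_mul, ← map_add, map_mul p, D_mul, map_mul σ, map_mul e]
    congr 1
    have e1 := hK2 _ _ (hσe h) (Φ_π (r ((1 : B) ⊗ₜ KaehlerDifferential.D A P.toExtension.Ring (p h'))))
    have e2 := hK2 _ _ (hσe h') (Φ_π (r ((1 : B) ⊗ₜ KaehlerDifferential.D A P.toExtension.Ring (p h))))
    have e3 := hK2 _ _ (hσe h) (hσe h')
    have e4 : (e h ⊗ₜ[k] (1 : A ⧸ Ideal.span {t ^ (c + 1)})) * (e h' ⊗ₜ 1) = (e h * e h') ⊗ₜ 1 := by
      rw [Algebra.TensorProduct.tmul_mul_tmul, one_mul]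
    change (σ (p h) - e h ⊗ₜ 1) * D (p h') = 0 at e1
    change (σ (p h') - e h' ⊗ₜ 1) * D (p h) = 0 at e2
    rw [← e4]
    linear_combination e1 + e2 - tn ^ c * e3
  have δ_C : ∀ l, δ (MvPolynomial.C l) = 0 := fun l => by
    change cf _ = 0
    rw [p_C, D_C, σ_C,
      show e (MvPolynomial.C l) = algebraMap k C l from MvPolynomial.aeval_C _ _]
    have : inA (algebraMap k A l) = algebraMap k C l ⊗ₜ[k] (1 : A ⧸ Ideal.span {t ^ (c + 1)}) := by
      change (1 : C) ⊗ₜ Ideal.Quotient.mk _ (algebraMap k A l) = _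
      rw [Ideal.Quotient.mk_algebraMap, Algebra.algebraMap_eq_smul_one, Algebra.algebraMap_eq_smul_one,
        TensorProduct.smul_tmul]
    rw [this, sub_self, mul_zero, sub_zero, map_zero]
  have hJ2 : ∀ x y, x ∈ J → y ∈ J → x * y = 0 := fun x y hx hy => by
    have h : x * y ∈ J ^ 2 := pow_two J ▸ Ideal.mul_mem_mul hx hy
    rwa [hJ, Ideal.mem_bot] at h
  let f : MvPolynomial B₀ k →ₐ[k] C :=
    { toFun := fun h => e h - δ h
      map_one' := by rw [← MvPolynomial.C_1, δ_C, sub_zero, MvPolynomial.C_1, map_one]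
      map_mul' := fun h h' => by
        rw [map_mul, δ_mul]
        linear_combination -(hJ2 _ _ (δ_mem h) (δ_mem h'))
      map_zero' := by rw [← MvPolynomial.C_0, δ_C, sub_zero, MvPolynomial.C_0, map_zero]
      map_add' := fun h h' => by rw [map_add, δ_add]; ring
      commutes' := fun l => by
        change e (MvPolynomial.C l) - δ (MvPolynomial.C l) = _
        rw [δ_C, sub_zero]
        exact MvPolynomial.aeval_C _ _ }
  have hf : RingHom.ker ev ≤ RingHom.ker f := fun h hh => by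
    rw [RingHom.mem_ker] at hh ⊢
    have h0 := hpB h
    rw [hh, map_zero] at h0
    obtain ⟨d, hd⟩ := Ideal.mem_span_singleton'.1 ((Ideal.Quotient.eq_zero_iff_mem).1 h0)
    obtain ⟨d, rfl⟩ := P.toExtension.algebraMap_surjective d
    let Tp : P.toExtension.Ring := MvPolynomial.C (t ^ (c + 1))
    have hTσ : σ Tp = 0 := by
      change σ (MvPolynomial.C (t ^ (c + 1))) = 0
      rw [σ_C, map_pow]; exact htn
    have hTD : D Tp = 0 := D_C _
    have hTB : algebraMap P.toExtension.Ring B Tp = algebraMap A B t ^ (c + 1) := (am_C _).trans (map_pow _ _ _)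
    let f₀ : P.toExtension.Ring := p h - Tp * d
    have hfd : p h = f₀ + Tp * d := (sub_add_cancel _ _).symm
    have hf₀ : algebraMap P.toExtension.Ring B f₀ = 0 := by
      change algebraMap P.toExtension.Ring B (p h - Tp * d) = 0
      rw [map_sub, map_mul, hTB, ← hd]; ring
    have hph : σ (p h) = σ f₀ := by rw [hfd, map_add, map_mul, hTσ, zero_mul, add_zero]
    have hDph : D (p h) = tn ^ c * σ f₀ := by
      rw [hfd, D_add, D_mul, hTD, hTσ, zero_mul, mul_zero, add_zero, add_zero, D_ker f₀ hf₀]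
    have hδ : δ h = e h := by
      change cf _ = _
      rw [hDph, hph, mul_sub, sub_sub_cancel, mul_comm, cf_mul, Algebra.TensorProduct.tmul_pow, ← map_pow,
        one_pow, cf_tmul, hε, one_smul, mul_one]
    change e h - δ h = 0
    rw [hδ, sub_self]
  refine ⟨AlgHom.liftOfSurjective ev hev_surj f hf, AlgHom.ext fun y => ?_⟩
  obtain ⟨h, rfl⟩ := hev_surj y
  rw [AlgHom.comp_apply, AlgHom.liftOfSurjective_apply]
  change π₀ (e h - δ h) = g (ev h)
  rw [map_sub, he, (Ideal.Quotient.eq_zero_iff_mem).2 (δ_mem h) |> (fun z => (show π₀ (δ h) = 0 from z)), sub_zero]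

end Groth.Agent.CotRigid8
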