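import Groth.Agent.Lib.CotRigid8.Retraction
import Groth.Agent.Lib.CotT3.Comp

/-!
# Smoothness off `t` and uniform annihilation of T¹
-/

set_option autoImplicit false
set_option backward.isDefEq.respectTransparency false

universe u

open TensorProduct

noncomputable section

namespace Groth.Agent.CotRigid8

theorem uniform_iff {A B : Type u} [CommRing A] [CommRing B] [Algebra A B] [IsNoetherianRing B]
    [Algebra.FinitePresentation A B] (τ : B) :
    (∀ q : PrimeSpectrum B, τ ∉ q.asIdeal → q ∈ Algebra.smoothLocus A B) ↔
    ∃ n₀ : ℕ, ∀ (M : Type u) [AddCommGroup M] [Module B M] [Module.Finite B M],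
      ∀ x : CotT.T1 (CotT.canon A B) M, τ ^ n₀ • x = 0 := by
  classical
  let P := Algebra.Presentation.ofFinitePresentation A B
  obtain ⟨h⟩ := CotT3.nonempty_presHom P (CotT.canon A B)
  constructor
  · intro hsm
    obtain ⟨c, r, hr⟩ := exists_retraction P τ hsm
    refine ⟨c, fun M _ _ _ x => (CotT3.T1pull_bijective M h).1 ?_⟩
    rw [map_smul, map_zero]
    obtain ⟨φ, hφ⟩ := CotT3.homToT1_surjective P M (h.T1pull M x)
    rw [← hφ, ← map_smul, ← LinearMap.mem_ker, CotT3.ker_homToT1]
    exact ⟨φ ∘ₗ r, LinearMap.ext fun y => by
      change φ (r _) = τ ^ c • φ y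
      rw [hr, map_smul]⟩
  · rintro ⟨n, hn⟩ q hq
    haveI : Module.Finite B P.toExtension.Cotangent := Algebra.Extension.Cotangent.finite P.fg_ker
    haveI : Module.Finite B P.toExtension.CotangentSpace :=
      Module.Finite.of_basis P.toGenerators.cotangentSpaceBasis
    haveI : Module.Projective B P.toExtension.CotangentSpace :=
      Module.Projective.of_basis P.toGenerators.cotangentSpaceBasis
    have h0 : CotT.homToT1 P P.toExtension.Cotangent (τ ^ n • LinearMap.id) = 0 := by
      obtain ⟨x, hx⟩ := (CotT3.T1pull_bijective P.toExtension.Cotangent h).2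
        (CotT.homToT1 P P.toExtension.Cotangent LinearMap.id)
      rw [map_smul, ← hx, ← map_smul, hn, map_zero]
    rw [← LinearMap.mem_ker, CotT3.ker_homToT1] at h0
    obtain ⟨ψ, hψ⟩ := h0
    have hψ' : ∀ y, ψ (P.toExtension.cotangentComplex y) = τ ^ n • y := fun y => LinearMap.congr_fun hψ y
    rw [Algebra.smoothLocus_eq_compl_support_inter]
    refine ⟨fun hsupp => ?_, ?_⟩
    · obtain ⟨m, hm⟩ := Module.mem_support_iff_exists_annihilator.1 hsupp
      refine hq (q.isPrime.mem_of_pow_mem n (hm ?_))
      rw [Submodule.mem_annihilator_span_singleton]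
      obtain ⟨y, rfl⟩ := P.equivH1Cotangent.surjective m
      rw [← map_smul]
      refine (congrArg _ (Subtype.ext ?_)).trans (map_zero _)
      change τ ^ n • y.1 = 0
      rw [← hψ', show P.toExtension.cotangentComplex y.1 = 0 from y.2, map_zero]
    · let π := P.toExtension.toKaehler
      let F : P.toExtension.CotangentSpace →ₗ[B] P.toExtension.CotangentSpace :=
        τ ^ n • LinearMap.id - P.toExtension.cotangentComplex ∘ₗ ψ
      have hF : LinearMap.ker π ≤ LinearMap.ker F := fun x hx => by
        obtain ⟨y, rfl⟩ := (P.toExtension.exact_cotangentComplex_toKaehler x).1 hx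
        change τ ^ n • P.toExtension.cotangentComplex y - P.toExtension.cotangentComplex (ψ (P.toExtension.cotangentComplex y)) = 0
        rw [hψ', map_smul, sub_self]
      let e := LinearMap.quotKerEquivOfSurjective π P.toExtension.toKaehler_surjective
      let s : Ω[B⁄A] →ₗ[B] P.toExtension.CotangentSpace := (LinearMap.ker π).liftQ F hF ∘ₗ e.symm.toLinearMap
      have hs : ∀ w, π (s w) = τ ^ n • w := fun w => by
        obtain ⟨x, rfl⟩ := P.toExtension.toKaehler_surjective w
        have : e.symm (π x) = Submodule.Quotient.mk x := by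
          rw [LinearEquiv.symm_apply_eq, LinearMap.quotKerEquivOfSurjective_apply_mk]
        change π ((LinearMap.ker π).liftQ F hF (e.symm (π x))) = _
        rw [this, Submodule.liftQ_apply]
        change π (τ ^ n • x - P.toExtension.cotangentComplex (ψ x)) = _
        rw [map_sub, map_smul,
          show π (P.toExtension.cotangentComplex (ψ x)) = 0 from
            P.toExtension.exact_cotangentComplex_toKaehler.apply_apply_eq_zero _, sub_zero]
      let L := Localization.AtPrime q.asIdeal
      have hu : IsUnit (algebraMap B L (τ ^ n)) :=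
        IsLocalization.map_units L (⟨τ ^ n, fun h => hq (q.isPrime.mem_of_pow_mem n h)⟩ : q.asIdeal.primeCompl)
      haveI : Module.Projective L (L ⊗[B] Ω[B⁄A]) :=
        Module.Projective.of_split ((↑hu.unit⁻¹ : L) • s.baseChange L) (π.baseChange L) (by
          refine LinearMap.ext fun z => ?_
          change π.baseChange L ((↑hu.unit⁻¹ : L) • s.baseChange L z) = z
          have : π.baseChange L (s.baseChange L z) = algebraMap B L (τ ^ n) • z := by
            rw [← LinearMap.comp_apply, ← LinearMap.baseChange_comp,
              show π ∘ₗ s = τ ^ n • LinearMap.id from LinearMap.ext hs, LinearMap.baseChange_smul,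
              LinearMap.baseChange_id, LinearMap.smul_apply, LinearMap.id_apply, algebraMap_smul]
          rw [map_smul, this, smul_smul, IsUnit.val_inv_mul, one_smul])
      rw [Module.mem_freeLocus_iff_tensor q L]
      exact Module.free_of_flat_of_isLocalRing

end Groth.Agent.CotRigid8
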